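import Cfsg.Agent.Lib.Coprime.PrimePowerOrbits.Two
import Cfsg.Agent.Lib.FTApps.Basic

/-!
A group acting faithfully and coprimely on a finite abelian group with all orbits of `p`-power size is
solvable (for odd `p` it has odd order).
-/

set_option autoImplicit false
set_option linter.style.haveILetI false

universe u v

namespace CfsgLib.Coprime.PrimePowerOrbits

/-- A perfect group acting coprimely with two-power orbits acts trivially. -/
theorem trivial_of_perfect {A : Type u} [Group A] [Finite A] (hperf : commutator A = ⊤) :
    ∀ (m : ℕ) (V : Type v) [AddCommGroup V] [Finite V], Nat.card V = m → ∀ ρ : A →* AddMonoid.End V,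
      (Nat.card A).Coprime (Nat.card V) → Orb ρ 2 → ∀ a w, ρ a w = w := by
  intro m
  induction m using Nat.strong_induction_on with
  | _ m ih =>
    intro V _ _ hm ρ hcop hO a w
    by_cases hirr : ∀ W : AddSubgroup V, (∀ a, ∀ w ∈ W, ρ a w ∈ W) → W = ⊥ ∨ W = ⊤
    · -- pass to the image
      set f := ρ.toHomUnits
      haveI : Finite f.range := Finite.of_surjective _ f.rangeRestrict_surjective
      let ρ' : ↥f.range →* AddMonoid.End V := (Units.coeHom _).comp f.range.subtype
      have hinj : Function.Injective ρ' := fun x y h => Subtype.ext (Units.ext h)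
      have hperf' : commutator ↥f.range = ⊤ := by
        have h1 := Subgroup.map_commutator (⊤ : Subgroup A) (⊤ : Subgroup A) f.rangeRestrict
        rw [← commutator_def, hperf, Subgroup.map_top_of_surjective _ f.rangeRestrict_surjective,
          ← commutator_def] at h1
        exact h1.symm
      have hO' : Orb ρ' 2 := fun x => by
        obtain ⟨k, hk⟩ := hO x
        refine ⟨k, ?_⟩
        rw [← hk, ← Subgroup.index_comap_of_surjective (st ρ' x) f.rangeRestrict_surjective]
        rfl
      have hsub := subsingleton_of_perfect ρ' hinj
        (Nat.Coprime.coprime_dvd_left (Subgroup.card_dvd_of_surjective _ f.rangeRestrict_surjective) hcop)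
        hperf' hO' (fun W hW => hirr W fun b x hx => hW ⟨f b, b, rfl⟩ x hx)
      have h1 : ρ' ⟨f a, a, rfl⟩ = ρ' 1 := congrArg ρ' (Subsingleton.elim _ _)
      rw [map_one] at h1
      exact DFunLike.congr_fun h1 w
    · push Not at hirr
      obtain ⟨W, hW, hWb, hWt⟩ := hirr
      have hWlt : Nat.card W < m := by
        rw [← hm]
        exact lt_of_le_of_ne (Nat.card_le_card_of_injective _ W.subtype_injective) fun e => hWt (W.eq_top_of_card_eq e)
      have hQlt : Nat.card (V ⧸ W) < m := by
        rw [← hm, AddSubgroup.card_eq_card_quotient_mul_card_addSubgroup W]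
        exact lt_mul_of_one_lt_right Nat.card_pos (W.one_lt_card_iff_ne_bot.2 hWb)
      -- the restriction
      let ρW : A →* AddMonoid.End W :=
        { toFun := fun b =>
            ({ toFun := fun x => ⟨ρ b (x : V), hW b (x : V) x.2⟩
               map_zero' := Subtype.ext (map_zero (ρ b))
               map_add' := fun x y => Subtype.ext (map_add (ρ b) (x : V) (y : V)) } : ↥W →+ ↥W)
          map_one' := DFunLike.ext _ _ fun (x : ↥W) => Subtype.ext (by show ρ 1 (x : V) = (x : V); rw [map_one]; rfl)
          map_mul' := fun b c => DFunLike.ext _ _ fun (x : ↥W) => Subtype.ext (apply_mul ρ b c (x : V)) }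
      have hOW : Orb ρW 2 := fun x => by
        obtain ⟨k, hk⟩ := hO (x : V)
        refine ⟨k, ?_⟩
        rw [show st ρW x = st ρ (x : V) from Subgroup.ext fun b =>
          ⟨fun h => congrArg Subtype.val h, fun h => Subtype.ext h⟩]
        exact hk
      -- the quotient
      let ρQ : A →* AddMonoid.End (V ⧸ W) :=
        { toFun := fun b => QuotientAddGroup.map W W (ρ b) fun x hx => hW b x hx
          map_one' := DFunLike.ext _ _ fun x => by
            induction x using QuotientAddGroup.induction_on with
            | H y => show (QuotientAddGroup.mk (ρ 1 y) : V ⧸ W) = QuotientAddGroup.mk y; rw [map_one]; rfl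
          map_mul' := fun b c => DFunLike.ext _ _ fun x => by
            induction x using QuotientAddGroup.induction_on with
            | H y =>
              show (QuotientAddGroup.mk (ρ (b * c) y) : V ⧸ W) = QuotientAddGroup.mk (ρ b (ρ c y))
              rw [apply_mul] }
      have hOQ : Orb ρQ 2 := fun x => by
        induction x using QuotientAddGroup.induction_on with
        | H y =>
          obtain ⟨k, hk⟩ := hO y
          have hle : st ρ y ≤ st ρQ (QuotientAddGroup.mk y) := fun b hb => by
            show (QuotientAddGroup.mk (ρ b y) : V ⧸ W) = QuotientAddGroup.mk y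
            rw [mem_st.1 hb]
          obtain ⟨i, -, hi⟩ := (Nat.dvd_prime_pow Nat.prime_two).1 (hk ▸ Subgroup.index_dvd_of_le hle)
          exact ⟨i, hi⟩
      have h1 := ih _ hQlt (V ⧸ W) rfl ρQ (hcop.coprime_dvd_right (AddSubgroup.card_quotient_dvd_card W)) hOQ
      have h2 := ih _ hWlt W rfl ρW (hcop.coprime_dvd_right (AddSubgroup.card_addSubgroup_dvd_card W)) hOW
      have hmem : ρ a w - w ∈ W := by
        rw [← QuotientAddGroup.eq_zero_iff, QuotientAddGroup.mk_sub, sub_eq_zero]
        exact h1 a (QuotientAddGroup.mk w)
      exact eq_of_sub_fixed hcop ρ (congrArg Subtype.val (h2 a ⟨_, hmem⟩))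

theorem isSolvable_two (V : Type v) [AddCommGroup V] [Finite V] :
    ∀ (n : ℕ) (A : Type u) [Group A] [Finite A], Nat.card A = n → ∀ ρ : A →* AddMonoid.End V,
      Function.Injective ρ → (Nat.card A).Coprime (Nat.card V) → Orb ρ 2 → Group.IsSolvable A := by
  intro n
  induction n using Nat.strong_induction_on with
  | _ n ih =>
    intro A _ _ hn ρ hinj hcop hO
    by_cases hperf : commutator A = ⊤
    · have : ∀ a : A, a = 1 := fun a => hinj (DFunLike.ext _ _ fun w => by
        rw [trivial_of_perfect hperf _ V rfl ρ hcop hO a w, map_one]; rfl)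
      haveI : Subsingleton A := ⟨fun a b => by rw [this a, this b]⟩
      exact Group.isSolvable_of_comm fun x y => Subsingleton.elim _ _
    have hlt : Nat.card (commutator A) < n := by
      rw [← hn]
      exact lt_of_le_of_ne (Subgroup.card_le_card_group _) fun e => hperf (Subgroup.eq_top_of_card_eq _ e)
    haveI := ih _ hlt (commutator A) rfl (ρ.comp (commutator A).subtype)
      (fun x y h => Subtype.ext (hinj h)) (hcop.coprime_dvd_left (Subgroup.card_subgroup_dvd_card _))
      (hO.comp_subtype Nat.prime_two _)
    haveI : Group.IsSolvable (Abelianization A) := Group.isSolvable_of_comm fun x y => mul_comm x y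
    exact Group.isSolvable_of_ker_le_range (commutator A).subtype (Abelianization.of (G := A)) (by
      rw [Subgroup.range_subtype]
      intro x hx
      exact (QuotientGroup.eq_one_iff x).1 hx)

/-- A group acting faithfully and coprimely with orbits of prime power size is solvable. -/
theorem isSolvable_of_orb (hFT : CfsgLib.FTApps.OddSolvable.{u}) {A : Type u} [Group A] [Finite A]
    {V : Type v} [AddCommGroup V] [Finite V] (ρ : A →* AddMonoid.End V) (hinj : Function.Injective ρ)
    (hcop : (Nat.card A).Coprime (Nat.card V)) {p : ℕ} (hp : p.Prime) (hO : Orb ρ p) : Group.IsSolvable A := by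
  rcases hp.eq_two_or_odd' with rfl | hodd
  · exact isSolvable_two V _ A rfl ρ hinj hcop hO
  · exact hFT A (odd_card hodd hcop ρ hinj hO)

end CfsgLib.Coprime.PrimePowerOrbits
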