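import Mathlib

/-!
Elementary bounds: the power of two dividing `q ^ n - 1` is small.
-/

set_option autoImplicit false

namespace CfsgLib.Coprime.PrimePowerOrbits

/-- For odd `x` and odd `m` the two-part of `x ^ m - 1` divides `x - 1`. -/
theorem two_pow_dvd_sub_one {x m j : ℕ} (hx : Odd x) (hm : Odd m) (h : 2 ^ j ∣ x ^ m - 1) : 2 ^ j ∣ x - 1 := by
  have hodd : Odd (∑ i ∈ Finset.range m, x ^ i) := by
    rw [Nat.odd_iff, Finset.sum_nat_mod, Finset.sum_congr rfl (g := fun _ => 1)
      (fun i _ => Nat.odd_iff.1 hx.pow), Finset.sum_const, Finset.card_range, smul_eq_mul, mul_one]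
    exact Nat.odd_iff.1 hm
  have he := geom_sum_mul_of_one_le (x := x) hx.pos m
  rw [← he] at h
  exact ((Nat.coprime_two_left.2 hodd).pow_left j).dvd_of_dvd_mul_left h

/-- The two-part of `q ^ n - 1` is at most `n * (q + 1)`. -/
theorem two_pow_le {q : ℕ} (hq : Odd q) (hq3 : 3 ≤ q) :
    ∀ n : ℕ, 0 < n → ∀ j : ℕ, 2 ^ j ∣ q ^ n - 1 → 2 ^ j ≤ n * (q + 1) := by
  intro n
  induction n using Nat.strong_induction_on with
  | _ n ih =>
    intro hn j hj
    rcases Nat.even_or_odd n with ⟨m, rfl⟩ | hodd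
    · rcases j with _ | j
      · nlinarith
      rcases Nat.even_or_odd m with hm | hm
      · -- `q ^ m + 1` is twice an odd number
        obtain ⟨c, hc⟩ := hm
        obtain ⟨t, ht⟩ := hq.pow (n := c)
        obtain ⟨u, hu⟩ : ∃ u, q ^ m + 1 = 2 * (2 * u + 1) := ⟨t * t + t, by rw [hc, pow_add, ht]; ring⟩
        have he : q ^ (m + m) - 1 = (q ^ m - 1) * (q ^ m + 1) := by
          rw [pow_add, mul_comm (q ^ m - 1), ← Nat.sq_sub_sq, one_pow, pow_two]
        rw [he, hu, show (q ^ m - 1) * (2 * (2 * u + 1)) = 2 * ((q ^ m - 1) * (2 * u + 1)) by ring, pow_succ',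
          Nat.mul_dvd_mul_iff_left two_pos] at hj
        have h1 := ih m (by omega) (by omega) j
          (((Nat.coprime_two_left.2 ⟨u, rfl⟩).pow_left j).dvd_of_dvd_mul_right hj)
        rw [pow_succ', add_mul]
        omega
      · have h1 : 2 ^ (j + 1) ∣ q ^ 2 - 1 := by
          refine two_pow_dvd_sub_one hq.pow hm ?_
          rw [← pow_mul, two_mul]
          exact hj
        obtain ⟨t, ht⟩ := hq
        have he : q ^ 2 - 1 = 4 * (t * (t + 1)) := by
          have h2 : q ^ 2 = 4 * (t * (t + 1)) + 1 := by rw [ht]; ring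
          omega
        have hle : 2 ^ (j + 1) ≤ 4 * (t + 1) := by
          rcases j with _ | j
          · omega
          rw [pow_succ, pow_succ, mul_assoc, mul_comm, he, show (2 : ℕ) * 2 = 4 from rfl,
            Nat.mul_dvd_mul_iff_left (by norm_num : 0 < 4)] at h1
          have h3 : 2 ^ j ≤ t + 1 := by
            rcases Nat.even_or_odd t with he' | ho'
            · refine le_trans (Nat.le_of_dvd (by omega) (((Nat.coprime_two_left.2
                (Even.add_one he')).pow_left j).dvd_of_dvd_mul_right h1)) (by omega)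
            · exact Nat.le_of_dvd (by omega)
                (((Nat.coprime_two_left.2 ho').pow_left j).dvd_of_dvd_mul_left h1)
          rw [pow_succ, pow_succ]
          omega
        have hm1 : 1 ≤ m := by omega
        calc 2 ^ (j + 1) ≤ 4 * (t + 1) := hle
          _ = 2 * (q + 1) := by rw [ht]; ring
          _ ≤ (m + m) * (q + 1) := Nat.mul_le_mul_right _ (by omega)
    · have h1 := Nat.le_of_dvd (by omega) (two_pow_dvd_sub_one hq hodd hj)
      calc 2 ^ j ≤ q - 1 := h1
        _ ≤ 1 * (q + 1) := by omega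
        _ ≤ n * (q + 1) := Nat.mul_le_mul_right _ hn

theorem sq_lt_three_pow : ∀ m : ℕ, 3 ≤ m → 16 * ((2 * m) * (2 * m)) < 3 ^ (2 * m)
  | 0, h => absurd h (by norm_num)
  | 1, h => absurd h (by norm_num)
  | 2, h => absurd h (by norm_num)
  | 3, _ => by norm_num
  | m + 4, _ => by
    have := sq_lt_three_pow (m + 3) (by omega)
    rw [show 2 * (m + 4) = 2 * (m + 3) + 2 from by ring, pow_add]
    nlinarith

/-- A power of two whose square exceeds `q ^ n` does not divide `q ^ n - 1`, except for `81`. -/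
theorem eighty_one {q n j : ℕ} (hq : Odd q) (hq3 : 3 ≤ q) (hn : 3 ≤ n) (h : 2 ^ j ∣ q ^ n - 1)
    (hbig : q ^ n < 2 ^ j * 2 ^ j) : q = 3 ∧ n = 4 := by
  rcases Nat.even_or_odd n with ⟨m, rfl⟩ | hodd
  · have hj := two_pow_le hq hq3 (m + m) (by omega) j h
    have hlt : q ^ (m + m) < ((m + m) * (q + 1)) * ((m + m) * (q + 1)) :=
      hbig.trans_le (Nat.mul_le_mul hj hj)
    by_cases hm : m = 2
    · subst hm
      refine ⟨?_, rfl⟩
      by_contra hne
      have h5 : 5 ≤ q := by
        obtain ⟨t, ht⟩ := hq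
        omega
      have h25 : 25 ≤ q * q := Nat.mul_le_mul h5 h5
      have h36 : 25 * ((q + 1) * (q + 1)) ≤ 36 * (q * q) := by nlinarith
      have h4 : q ^ (2 + 2) = (q * q) * (q * q) := by ring
      rw [h4] at hlt
      nlinarith
    · exfalso
      have hm3 : 3 ≤ m := by omega
      have h1 : 9 * ((q + 1) * (q + 1)) ≤ 16 * (q * q) := by nlinarith
      have h2 := sq_lt_three_pow m hm3
      rw [← two_mul] at hlt
      -- compare with `q = 3`
      have h3 : q * q * 3 ^ (2 * m) ≤ 9 * q ^ (2 * m) := by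
        obtain ⟨k, hk⟩ : ∃ k, 2 * m = k + 2 := ⟨2 * m - 2, by omega⟩
        rw [hk, pow_add, pow_add]
        have := Nat.pow_le_pow_left hq3 k
        nlinarith
      set A := 2 * m * (2 * m) with hA
      set B := (q + 1) * (q + 1) with hB
      set C := q * q with hC
      set T := 3 ^ (2 * m) with hT
      set Q := q ^ (2 * m) with hQ
      rw [show 2 * m * (q + 1) * (2 * m * (q + 1)) = A * B by rw [hA, hB]; ring] at hlt
      have h4 : A * (9 * B) ≤ A * (16 * C) := Nat.mul_le_mul_left _ h1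
      have h5 : C * (16 * A) ≤ C * T := Nat.mul_le_mul_left _ h2.le
      nlinarith
  · exfalso
    have h1 := Nat.le_of_dvd (by omega) (two_pow_dvd_sub_one hq hodd h)
    have h2 : q ^ 3 ≤ q ^ n := Nat.pow_le_pow_right hq.pos hn
    have h3 : 2 ^ j * 2 ^ j ≤ q * q := Nat.mul_le_mul (h1.trans (Nat.sub_le q 1)) (h1.trans (Nat.sub_le q 1))
    have h4 : q * q ≤ q ^ 3 := by rw [← pow_two]; exact Nat.pow_le_pow_right hq.pos (by norm_num)
    omega

end CfsgLib.Coprime.PrimePowerOrbits
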