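import Mathlib
import Cfsg.Agent.Lib.Perm.Basic

/-!
Coprime actions on finite abelian groups in which every orbit has prime power size: first consequences.
-/

set_option autoImplicit false
set_option linter.style.haveILetI false

namespace CfsgLib.Coprime.PrimePowerOrbits

variable {A : Type*} [Group A] {V : Type*} [AddCommGroup V]

/-- The stabiliser of a vector. -/
def st (ρ : A →* AddMonoid.End V) (v : V) : Subgroup A where
  carrier := {a | ρ a v = v}
  one_mem' := by
    show ρ 1 v = v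
    rw [map_one]; rfl
  mul_mem' {a b} ha hb := by
    show ρ (a * b) v = v
    rw [map_mul]
    show ρ a (ρ b v) = v
    rw [show ρ b v = v from hb, show ρ a v = v from ha]
  inv_mem' {a} ha := by
    show ρ a⁻¹ v = v
    have h : ρ (a⁻¹ * a) v = v := by rw [inv_mul_cancel, map_one]; rfl
    rw [map_mul] at h
    change ρ a⁻¹ (ρ a v) = v at h
    rwa [show ρ a v = v from ha] at h

theorem mem_st {ρ : A →* AddMonoid.End V} {v : V} {a : A} : a ∈ st ρ v ↔ ρ a v = v := Iff.rfl

theorem apply_mul (ρ : A →* AddMonoid.End V) (a b : A) (v : V) : ρ (a * b) v = ρ a (ρ b v) := by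
  rw [map_mul]; rfl

theorem apply_inv_apply (ρ : A →* AddMonoid.End V) (a : A) (v : V) : ρ a⁻¹ (ρ a v) = v := by
  rw [← apply_mul, inv_mul_cancel, map_one]; rfl

theorem apply_apply_inv (ρ : A →* AddMonoid.End V) (a : A) (v : V) : ρ a (ρ a⁻¹ v) = v := by
  rw [← apply_mul, mul_inv_cancel, map_one]; rfl

theorem apply_injective (ρ : A →* AddMonoid.End V) (a : A) : Function.Injective (ρ a) :=
  Function.LeftInverse.injective (apply_inv_apply ρ a)

/-- Every orbit has `p`-power size. -/
def Orb (ρ : A →* AddMonoid.End V) (p : ℕ) : Prop := ∀ v, ∃ k, (st ρ v).index = p ^ k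

theorem relIndex_dvd_index (C H : Subgroup A) [Finite A] [H.Normal] : C.relIndex H ∣ C.index := by
  have h1 := Subgroup.relIndex_mul_index (inf_le_right : C ⊓ H ≤ H)
  have h2 := Subgroup.relIndex_mul_index (inf_le_left : C ⊓ H ≤ C)
  rw [Subgroup.inf_relIndex_right] at h1
  rw [Subgroup.inf_relIndex_left] at h2
  obtain ⟨c, hc⟩ : H.relIndex C ∣ H.index := Subgroup.relIndex_dvd_index_of_normal H C
  refine ⟨c, Nat.eq_of_mul_eq_mul_left (Nat.pos_of_ne_zero
    (show H.relIndex C ≠ 0 from Subgroup.index_ne_zero_of_finite)) ?_⟩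
  rw [h2, ← h1, hc]; ring

/-- The hypothesis passes to normal subgroups. -/
theorem Orb.comp_subtype [Finite A] {ρ : A →* AddMonoid.End V} {p : ℕ} (hp : p.Prime) (h : Orb ρ p)
    (L : Subgroup A) [L.Normal] : Orb (ρ.comp L.subtype) p := fun v => by
  obtain ⟨k, hk⟩ := h v
  have he : st (ρ.comp L.subtype) v = (st ρ v).subgroupOf L := rfl
  obtain ⟨i, -, hi⟩ := (Nat.dvd_prime_pow hp).1 (hk ▸ relIndex_dvd_index (st ρ v) L)
  exact ⟨i, by rw [he]; exact hi⟩

/-- A Sylow `p`-subgroup has the same orbits. -/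
theorem exists_mem_eq [Finite A] {ρ : A →* AddMonoid.End V} {p : ℕ} [Fact p.Prime] (h : Orb ρ p)
    (P : Sylow p A) (a : A) (v : V) : ∃ π ∈ (P : Subgroup A), ρ a v = ρ π v := by
  obtain ⟨k, hk⟩ := h v
  have hpt := CfsgLib.Perm.Basic.sylow_isPretransitive (G := A) (Ω := A ⧸ st ρ v)
    (show Nat.card (A ⧸ st ρ v) = p ^ k from hk) P
  obtain ⟨π, hπ⟩ := hpt.exists_smul_eq (QuotientGroup.mk (1 : A) : A ⧸ st ρ v) (QuotientGroup.mk a)
  refine ⟨π, π.2, ?_⟩
  have h1 : (QuotientGroup.mk ((π : A) * 1) : A ⧸ st ρ v) = QuotientGroup.mk a := hπ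
  rw [mul_one, QuotientGroup.eq, mem_st, apply_mul] at h1
  calc ρ a v = ρ (π : A) (ρ ((π : A)⁻¹) (ρ a v)) := (apply_apply_inv ρ _ _).symm
    _ = ρ (π : A) v := by rw [h1]

/-- In a coprime action an element trivial on a subgroup and on the quotient is trivial. -/
theorem eq_of_sub_fixed [Finite V] [Finite A] (hcop : (Nat.card A).Coprime (Nat.card V))
    (ρ : A →* AddMonoid.End V) {a : A} {v : V} (h : ρ a (ρ a v - v) = ρ a v - v) : ρ a v = v := by
  set n := ρ a v - v with hn
  have hk : ∀ k : ℕ, ρ (a ^ k) v = v + k • n := by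
    intro k
    induction k with
    | zero => rw [pow_zero, map_one, zero_smul, add_zero]; rfl
    | succ k ih =>
      rw [pow_succ', apply_mul, ih, map_add, map_nsmul, h, succ_nsmul', ← add_assoc]
      congr 1
      rw [hn, add_sub_cancel]
  have h1 := hk (Nat.card A)
  rw [pow_card_eq_one', map_one] at h1
  have h2 : Nat.card A • n = 0 := left_eq_add.1 h1
  have h3 := Nat.dvd_gcd (addOrderOf_dvd_of_nsmul_eq_zero h2) (addOrderOf_dvd_natCard n)
  rw [hcop, Nat.dvd_one, AddMonoid.addOrderOf_eq_one_iff] at h3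
  exact sub_eq_zero.1 h3

/-- With odd orbits the acting group has odd order. -/
theorem odd_card [Finite A] [Finite V] {p : ℕ} (hp : Odd p) (hcop : (Nat.card A).Coprime (Nat.card V))
    (ρ : A →* AddMonoid.End V) (hinj : Function.Injective ρ) (h : Orb ρ p) : Odd (Nat.card A) := by
  classical
  by_contra hodd
  obtain ⟨t, ht⟩ := exists_prime_orderOf_dvd_card' (G := A) 2
    (even_iff_two_dvd.1 (Nat.not_odd_iff_even.1 hodd))
  have hVodd : ∀ x : V, x + x = 0 → x = 0 := by
    intro x hx
    have h2 : 2 • x = 0 := by rw [two_nsmul, hx]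
    have h3 := Nat.dvd_gcd ((addOrderOf_dvd_of_nsmul_eq_zero h2).trans (ht ▸ orderOf_dvd_natCard t))
      (addOrderOf_dvd_natCard x)
    rwa [hcop, Nat.dvd_one, AddMonoid.addOrderOf_eq_one_iff] at h3
  obtain ⟨v, hv⟩ : ∃ v, ρ t v ≠ v := by
    by_contra hall
    push Not at hall
    have : t = 1 := hinj (DFunLike.ext _ _ fun x => (hall x).trans (by rw [map_one]; rfl))
    rw [this, orderOf_one] at ht
    exact absurd ht (by norm_num)
  set n := ρ t v - v with hn
  have htn : ρ t n = -n := by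
    rw [hn, map_sub, ← apply_mul, show t * t = 1 by rw [← pow_two, ← ht, pow_orderOf_eq_one], map_one,
      neg_sub]
    rfl
  have hn0 : n ≠ 0 := sub_ne_zero.2 hv
  let f : A ⧸ st ρ n → A ⧸ st ρ n := Quotient.map' (fun a => a * t) fun a b hab => by
    rw [QuotientGroup.leftRel_apply, mem_st] at hab ⊢
    rw [show (a * t)⁻¹ * (b * t) = t⁻¹ * ((a⁻¹ * b) * t) by group, apply_mul, apply_mul, htn, map_neg, hab,
      ← htn, apply_inv_apply]
  obtain ⟨k, hk⟩ := h n
  haveI := Fintype.ofFinite (A ⧸ st ρ n)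
  have hmod := Equiv.Perm.card_fixedPoints_modEq (f := (f : Function.End (A ⧸ st ρ n))) (p := 2) (n := 1) (by
    funext x
    induction x using QuotientGroup.induction_on with
    | H a =>
      show (QuotientGroup.mk (a * t * t) : A ⧸ st ρ n) = QuotientGroup.mk a
      rw [mul_assoc, ← pow_two, ← ht, pow_orderOf_eq_one, mul_one])
  haveI : IsEmpty ↥(Function.fixedPoints f) := ⟨fun x => by
    obtain ⟨x, hx⟩ := x
    induction x using QuotientGroup.induction_on with
    | H a =>
      have h1 : (QuotientGroup.mk (a * t) : A ⧸ st ρ n) = QuotientGroup.mk a := hx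
      rw [QuotientGroup.eq, mul_inv_rev, inv_mul_cancel_right, mem_st] at h1
      have h2 : ρ t n = n := by
        conv_lhs => rw [← h1]
        rw [apply_apply_inv]
      exact hn0 (hVodd n (by rw [htn] at h2; nth_rewrite 1 [← h2]; exact neg_add_cancel n))⟩
  rw [← Nat.card_eq_fintype_card, Fintype.card_eq_zero (α := ↥(Function.fixedPoints f)),
    show Nat.card (A ⧸ st ρ n) = p ^ k from hk] at hmod
  have := (hp.pow (n := k))
  rw [Nat.odd_iff] at this
  rw [Nat.ModEq, this] at hmod
  exact one_ne_zero hmod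

end CfsgLib.Coprime.PrimePowerOrbits
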