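import Cfsg.Agent.Lib.Coprime.PrimePowerOrbits.Arith
import Cfsg.Agent.Lib.Coprime.PrimePowerOrbits.Basic
import Cfsg.Agent.Lib.LocalEven.HalfTransitive
import Cfsg.Agent.Lib.Fusion.ThompsonTransfer
import Cfsg.Agent.Lib.Fusion.NormalRankTwo
import Cfsg.Agent.S0144

/-!
A perfect group of linear maps of a finite abelian group, of coprime order, whose orbits all have
two-power size, is trivial: a Sylow two-subgroup has the same orbits, hence has no normal four-group
and one involution only, so it is semiregular and too small.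
-/

set_option autoImplicit false
set_option linter.style.haveILetI false

namespace CfsgLib.Coprime.PrimePowerOrbits

variable {A : Type*} [Group A] {V : Type*} [AddCommGroup V]

/-- The vectors fixed by a set of elements. -/
def fix (ρ : A →* AddMonoid.End V) (S : Set A) : AddSubgroup V where
  carrier := {v | ∀ a ∈ S, ρ a v = v}
  zero_mem' := fun a _ => map_zero (ρ a)
  add_mem' {v w} hv hw := fun a ha => by rw [map_add, hv a ha, hw a ha]
  neg_mem' {v} hv := fun a ha => by rw [map_neg, hv a ha]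

theorem mem_fix {ρ : A →* AddMonoid.End V} {S : Set A} {v : V} : v ∈ fix ρ S ↔ ∀ a ∈ S, ρ a v = v := Iff.rfl

theorem mem_fix_singleton {ρ : A →* AddMonoid.End V} {a : A} {v : V} : v ∈ fix ρ {a} ↔ ρ a v = v :=
  ⟨fun h => h a rfl, fun h b hb => by rw [Set.mem_singleton_iff.1 hb]; exact h⟩

/-- A homomorphism from a perfect group into a commutative monoid is trivial. -/
theorem hom_trivial_of_perfect (hperf : commutator A = ⊤) {M : Type*} [CommGroup M] (f : A →* M) (a : A) :
    f a = 1 := by
  have h := Abelianization.commutator_subset_ker f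
  rw [hperf] at h
  exact MonoidHom.mem_ker.1 (h (Subgroup.mem_top a))

theorem index_two_false (hperf : commutator A = ⊤) (S : Subgroup A) (h : S.index = 2) : False := by
  haveI : Fact (Nat.Prime 2) := ⟨Nat.prime_two⟩
  haveI := Subgroup.normal_of_index_eq_two h
  haveI : IsCyclic (A ⧸ S) := isCyclic_of_prime_card (p := 2) h
  have hle : S = ⊤ := by
    rw [eq_top_iff, ← hperf, commutator_def, Subgroup.commutator_le]
    intro x _ y _
    rw [← QuotientGroup.eq_one_iff, ← QuotientGroup.mk'_apply, map_commutatorElement]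
    exact commutatorElement_eq_one_iff_commute.2 (IsCyclic.isMulCommutative.is_comm.comm _ _)
  rw [hle, Subgroup.index_top] at h
  exact absurd h (by norm_num)

section linear

variable [Finite A] [Finite V] {q : ℕ} [Fact q.Prime] [Module (ZMod q) V]

/-- In a perfect coprime group only the identity fixes a hyperplane pointwise. -/
theorem eq_one_of_fix_hyperplane (ρ : A →* AddMonoid.End V) (hinj : Function.Injective ρ)
    (hcop : (Nat.card A).Coprime (Nat.card V)) (hperf : commutator A = ⊤) (a : A)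
    (W : Submodule (ZMod q) V) (hW : ∀ v ∈ W, ρ a v = v)
    (hdim : Module.finrank (ZMod q) V ≤ Module.finrank (ZMod q) W + 1) : a = 1 := by
  classical
  haveI : Module.Finite (ZMod q) V := Module.Finite.of_finite
  refine hinj (DFunLike.ext _ _ fun v => ?_)
  show ρ a v = ρ 1 v
  rw [map_one]
  show ρ a v = v
  by_cases hsub : Module.finrank (ZMod q) (V ⧸ W) = 0
  · haveI : Subsingleton (V ⧸ W) := Module.finrank_zero_iff.1 hsub
    exact hW v ((Submodule.Quotient.mk_eq_zero W).1 (Subsingleton.elim _ _))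
  have h1 : Module.finrank (ZMod q) (V ⧸ W) = 1 := by
    have := W.finrank_quotient_add_finrank
    omega
  let Λ : A →* Module.End (ZMod q) V :=
    { toFun := fun b => AddMonoidHom.toZModLinearMap q (ρ b)
      map_one' := LinearMap.ext fun x => by show ρ 1 x = x; rw [map_one]; rfl
      map_mul' := fun b c => LinearMap.ext fun x => apply_mul ρ b c x }
  have hdet : LinearMap.det (Λ a) = 1 := by
    have h := hom_trivial_of_perfect hperf ((LinearMap.det.comp Λ).toHomUnits) a
    exact congrArg Units.val h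
  have he : W ≤ Submodule.comap (Λ a) W := fun x hx => by
    show ρ a x ∈ W
    rw [hW x hx]; exact hx
  rw [LinearMap.det_eq_det_mul_det W (Λ a) he,
    show (Λ a).restrict he = LinearMap.id from LinearMap.ext fun x => Subtype.ext (hW x x.2),
    LinearMap.det_id, one_mul] at hdet
  obtain ⟨u, hu0, hspan⟩ := finrank_eq_one_iff'.1 h1
  obtain ⟨c, hc⟩ := hspan (W.mapQ W (Λ a) he u)
  have hq : W.mapQ W (Λ a) he = c • LinearMap.id := LinearMap.ext fun x => by
    obtain ⟨d, rfl⟩ := hspan x
    rw [map_smul, ← hc, LinearMap.smul_apply, LinearMap.id_apply, smul_comm]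
  rw [hq, LinearMap.det_smul, h1, pow_one, LinearMap.det_id, mul_one] at hdet
  rw [hdet, one_smul] at hq
  refine eq_of_sub_fixed hcop ρ (hW _ ?_)
  rw [← Submodule.Quotient.eq W]
  exact LinearMap.congr_fun hq (Submodule.Quotient.mk v)

end linear

variable [Finite A] [Finite V]

/-- The number of vectors fixed by an element of prime order is congruent to the number of all vectors. -/
theorem fix_modEq (ρ : A →* AddMonoid.End V) {r : ℕ} [Fact r.Prime] {g : A} (hg : orderOf g = r) :
    Nat.card V ≡ Nat.card (fix ρ {g}) [MOD r] := by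
  letI : MulAction ↥(Subgroup.zpowers g) V :=
    { smul := fun a v => ρ (a : A) v
      one_smul := fun v => show ρ ((1 : ↥(Subgroup.zpowers g)) : A) v = v by rw [Subgroup.coe_one, map_one]; rfl
      mul_smul := fun a b v => apply_mul ρ (a : A) (b : A) v }
  have hP : IsPGroup r ↥(Subgroup.zpowers g) := IsPGroup.of_card (n := 1) (by rw [Nat.card_zpowers, hg, pow_one])
  refine (hP.card_modEq_card_fixedPoints V).trans ?_
  refine congrArg (fun m => m % r) (Nat.card_congr (Equiv.setCongr (Set.ext fun v => ⟨fun h => ?_, fun h => ?_⟩)))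
  · exact mem_fix_singleton.2 (h ⟨g, Subgroup.mem_zpowers g⟩)
  · intro a
    have hle : Subgroup.zpowers g ≤ st ρ v := Subgroup.zpowers_le.2 (mem_fix_singleton.1 h)
    exact hle a.2

/-- The counting part. -/
theorem final (ρ : A →* AddMonoid.End V) (hinj : Function.Injective ρ)
    (hcop : (Nat.card A).Coprime (Nat.card V)) (hperf : commutator A = ⊤) (hO : Orb ρ 2)
    {q : ℕ} [hqf : Fact q.Prime] (hqV : q ∣ Nat.card V) (P : Sylow 2 A) (h2A : 2 ∣ Nat.card A)
    (hdbl : ∀ x : V, x + x = 0 → x = 0)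
    (hPorb : ∀ a v, ∃ π ∈ (P : Subgroup A), ρ a v = ρ π v)
    (hsemi : ∀ π ∈ (P : Subgroup A), π ≠ 1 → ∀ v, ρ π v = v → v = 0)
    (z : A) (hzP : z ∈ (P : Subgroup A)) (hz1 : z ≠ 1) (I : Module (ZMod q) V) : False := by
  classical
  have hq := hqf.out
  have htriv : ∀ a : A, (∀ v, ρ a v = v) → a = 1 := fun a h =>
    hinj (DFunLike.ext _ _ fun v => (h v).trans (by rw [map_one]; rfl))
  haveI : Fact (Nat.Prime 2) := ⟨Nat.prime_two⟩
  haveI : Nontrivial ↥(P : Subgroup A) := ⟨⟨⟨z, hzP⟩, 1, fun e => hz1 (congrArg Subtype.val e)⟩⟩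
  have hVnt : Nontrivial V := by
    by_contra hs
    rw [not_nontrivial_iff_subsingleton] at hs
    exact hz1 (htriv z fun v => Subsingleton.elim _ _)
  haveI : Module.Finite (ZMod q) V := Module.Finite.of_finite
  set n := Module.finrank (ZMod q) V with hn
  have hcard : ∀ W : Submodule (ZMod q) V, Nat.card ↥W = q ^ Module.finrank (ZMod q) ↥W := fun W => by
    rw [Module.natCard_eq_pow_finrank (K := ZMod q) (V := ↥W), Nat.card_zmod]
  have hVc : Nat.card V = q ^ n := by rw [Module.natCard_eq_pow_finrank (K := ZMod q) (V := V), Nat.card_zmod]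
  have hqodd : Odd q := hq.odd_of_ne_two fun e => by
    subst e
    exact Nat.prime_two.ne_one (Nat.dvd_one.1 (hcop ▸ Nat.dvd_gcd h2A hqV))
  have hq3 : 3 ≤ q := by
    have := hq.two_le
    rcases hqodd with ⟨t, ht⟩
    omega
  -- an element of odd prime order
  obtain ⟨r, hr, hrA, hr2⟩ : ∃ r : ℕ, r.Prime ∧ r ∣ Nat.card A ∧ r ≠ 2 := by
    by_contra hcon
    push Not at hcon
    have hA := Nat.eq_prime_pow_of_unique_prime_dvd Nat.card_pos.ne' (fun {d} hd hdA => hcon d hd hdA)
    haveI : Group.IsNilpotent A := (IsPGroup.of_card hA).isNilpotent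
    haveI : Nontrivial A := ⟨⟨z, 1, hz1⟩⟩
    exact (Group.IsSolvable.commutator_lt_top_of_nontrivial A).ne hperf
  have hnonzero : ∃ v : V, v ≠ 0 := exists_ne 0
  have hfixed : ∀ s : ℕ, s.Prime → s ∣ Nat.card A → s ≠ 2 →
      ∃ g : A, orderOf g = s ∧ g ∉ (P : Subgroup A) ∧ ∃ v, v ≠ 0 ∧ ρ g v = v := by
    intro s hs hsA hs2
    haveI := Fact.mk hs
    obtain ⟨v, hv⟩ := hnonzero
    obtain ⟨i, hi⟩ := hO v
    have hd : s ∣ Nat.card (st ρ v) := by
      have h1 := (st ρ v).card_mul_index
      rw [hi] at h1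
      exact (hs.dvd_mul.1 (h1 ▸ hsA)).resolve_right fun h2 =>
        hs2 ((Nat.prime_dvd_prime_iff_eq hs Nat.prime_two).1 (hs.dvd_of_dvd_pow h2))
    obtain ⟨g, hg⟩ := exists_prime_orderOf_dvd_card' (G := st ρ v) s hd
    refine ⟨(g : A), by rw [Subgroup.orderOf_coe, hg], fun hgP => ?_, v, hv, g.2⟩
    obtain ⟨j, hj⟩ := IsPGroup.iff_orderOf.1 P.isPGroup' ⟨g, hgP⟩
    rw [Subgroup.orderOf_mk, Subgroup.orderOf_coe, hg] at hj
    exact hs2 ((Nat.prime_dvd_prime_iff_eq hs Nat.prime_two).1 (hs.dvd_of_dvd_pow (dvd_of_eq hj)))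
  let E : A → Submodule (ZMod q) V := fun b =>
    LinearMap.ker (AddMonoidHom.toZModLinearMap q (ρ b : V →+ V) - LinearMap.id)
  have hE : ∀ b v, v ∈ E b ↔ ρ b v = v := fun b v => by
    rw [LinearMap.mem_ker, LinearMap.sub_apply, sub_eq_zero]; rfl
  have hlow : ∀ b : A, b ≠ 1 → Module.finrank (ZMod q) (E b) + 2 ≤ n := by
    intro b hb
    by_contra hcon
    exact hb (eq_one_of_fix_hyperplane ρ hinj hcop hperf b (E b) (fun v hv => (hE b v).1 hv) (by omega))
  obtain ⟨g, hgo, hgP, v₀, hv₀, hgv₀⟩ := hfixed r hr hrA hr2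
  have hg1 : g ≠ 1 := fun e => hgP (e ▸ one_mem _)
  have hn3 : 3 ≤ n := by
    have h1 := hlow g hg1
    have h2 : 1 ≤ Module.finrank (ZMod q) (E g) := by
      by_contra h
      have h3 : E g = ⊥ := Submodule.finrank_eq_zero.1 (by omega)
      have h4 := (hE g v₀).2 hgv₀
      rw [h3, Submodule.mem_bot] at h4
      exact hv₀ h4
    omega
  -- the cover by eigenspaces
  haveI := Fintype.ofFinite V
  haveI := Fintype.ofFinite ↥(P : Subgroup A)
  set W : ↥(P : Subgroup A) → Submodule (ZMod q) V := fun π => E ((π : A)⁻¹ * g) with hW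
  have hWmem : ∀ π v, v ∈ W π ↔ ρ g v = ρ (π : A) v := fun π v => by
    rw [hW, hE, apply_mul]
    exact ⟨fun h => by conv_rhs => rw [← h, apply_apply_inv], fun h => by rw [h, apply_inv_apply]⟩
  have hWdis : ∀ π π', π ≠ π' → Module.finrank (ZMod q) (W π) + Module.finrank (ZMod q) (W π') ≤ n := by
    intro π π' hne
    refine Submodule.finrank_add_finrank_le_of_disjoint (Submodule.disjoint_def.2 fun v h1 h2 => ?_)
    refine hsemi ((π' : A)⁻¹ * (π : A)) (mul_mem (inv_mem π'.2) π.2) (fun e => hne ?_) v ?_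
    · exact Subtype.ext (inv_mul_eq_one.1 e).symm
    · rw [apply_mul, ← (hWmem π v).1 h1, (hWmem π' v).1 h2, apply_inv_apply]
  have hWlow : ∀ π, Module.finrank (ZMod q) (W π) + 2 ≤ n := fun π => hlow _ fun e => by
    rw [inv_mul_eq_one] at e
    exact hgP (e ▸ π.2)
  have hcover : q ^ n - 1 ≤ ∑ π, (q ^ Module.finrank (ZMod q) (W π) - 1) := by
    have h1 : (Finset.univ.erase (0 : V)) ⊆ Finset.univ.biUnion fun π : ↥(P : Subgroup A) =>
        ((W π : Set V).toFinset.erase 0) := by
      intro v hv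
      obtain ⟨π, hπ, h⟩ := hPorb g v
      exact Finset.mem_biUnion.2 ⟨⟨π, hπ⟩, Finset.mem_univ _, Finset.mem_erase.2
        ⟨(Finset.mem_erase.1 hv).1, Set.mem_toFinset.2 ((hWmem _ v).2 h)⟩⟩
    have h2 := (Finset.card_le_card h1).trans Finset.card_biUnion_le
    rw [Finset.card_erase_of_mem (Finset.mem_univ _), Finset.card_univ, ← Nat.card_eq_fintype_card, hVc] at h2
    refine h2.trans (le_of_eq (Finset.sum_congr rfl fun π _ => ?_))
    rw [Finset.card_erase_of_mem (Set.mem_toFinset.2 (W π).zero_mem), Set.toFinset_card,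
      ← Nat.card_eq_fintype_card]
    exact congrArg (· - 1) (hcard (W π))
  set T := Nat.card ↥(P : Subgroup A) with hT
  have hT2 : 2 ≤ T := Finite.one_lt_card
  have hbig : q ^ n < T * T := by
    set d := fun π => Module.finrank (ZMod q) (W π) with hd
    have hqn : 0 < q ^ n := pow_pos hq.pos n
    by_cases hhalf : ∀ π, 2 * d π ≤ n
    · obtain ⟨π₀, -, hmax⟩ := Finset.exists_max_image (Finset.univ : Finset ↥(P : Subgroup A)) d
        Finset.univ_nonempty
      have h1 : q ^ n - 1 ≤ T * (q ^ d π₀ - 1) := by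
        refine hcover.trans ((Finset.sum_le_card_nsmul _ _ _ fun π _ =>
          Nat.sub_le_sub_right (Nat.pow_le_pow_right hq.pos (hmax π (Finset.mem_univ π))) 1).trans ?_)
        rw [smul_eq_mul, Finset.card_univ, hT, Nat.card_eq_fintype_card]
      by_contra hcon
      push Not at hcon
      have h2 : q ^ d π₀ * q ^ d π₀ ≤ q ^ n := by
        rw [← pow_add, ← two_mul]; exact Nat.pow_le_pow_right hq.pos (hhalf π₀)
      have h3 : T * q ^ d π₀ ≤ q ^ n :=
        Nat.mul_self_le_mul_self_iff.1 (le_trans (le_of_eq (by ring)) (Nat.mul_le_mul hcon h2))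
      have h4 : T ≤ T * q ^ d π₀ := Nat.le_mul_of_pos_right _ (pow_pos hq.pos _)
      rw [Nat.mul_sub, mul_one] at h1
      omega
    · push Not at hhalf
      obtain ⟨π₀, hπ₀⟩ := hhalf
      have hl := hWlow π₀
      have h1 : q ^ n - 1 ≤ (q ^ d π₀ - 1) + T * q ^ (n - d π₀) := by
        refine hcover.trans ?_
        rw [← Finset.add_sum_erase _ _ (Finset.mem_univ π₀)]
        refine Nat.add_le_add_left ((Finset.sum_le_card_nsmul _ _ (q ^ (n - d π₀)) fun π hπ =>
          (Nat.sub_le _ _).trans (Nat.pow_le_pow_right hq.pos (by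
            have := hWdis π π₀ (Finset.ne_of_mem_erase hπ)
            simp only [hd] at hπ₀ ⊢
            omega))).trans ?_) _
        rw [smul_eq_mul]
        refine Nat.mul_le_mul_right _ ?_
        rw [hT, Nat.card_eq_fintype_card, ← Finset.card_univ]
        exact Finset.card_le_card (Finset.erase_subset _ _)
      have h9 : 9 * q ^ d π₀ ≤ q ^ n := by
        calc 9 * q ^ d π₀ ≤ q ^ 2 * q ^ d π₀ := Nat.mul_le_mul_right _ (by nlinarith)
          _ = q ^ (2 + d π₀) := by rw [pow_add]
          _ ≤ q ^ n := Nat.pow_le_pow_right hq.pos (by simp only [hd]; omega)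
      have hD : 0 < q ^ d π₀ := pow_pos hq.pos _
      have h2 : 8 * q ^ n ≤ 9 * (T * q ^ (n - d π₀)) := by omega
      have h3 : 8 * q ^ d π₀ ≤ 9 * T := by
        have he : q ^ n = q ^ d π₀ * q ^ (n - d π₀) := by
          rw [← pow_add]; congr 1; simp only [hd]; omega
        rw [he, ← mul_assoc, ← mul_assoc] at h2
        exact Nat.le_of_mul_le_mul_right h2 (pow_pos hq.pos _)
      have h4 : 3 * q ^ n ≤ q ^ d π₀ * q ^ d π₀ := by
        calc 3 * q ^ n ≤ q * q ^ n := Nat.mul_le_mul_right _ hq3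
          _ = q ^ (n + 1) := by rw [pow_succ, mul_comm]
          _ ≤ q ^ (d π₀ + d π₀) := Nat.pow_le_pow_right hq.pos (by omega)
          _ = _ := by rw [pow_add]
      have h5 := Nat.mul_le_mul h3 h3
      nlinarith
  -- the order of `P` divides the number of nonzero vectors
  have hTdvd : T ∣ q ^ n - 1 := by
    letI : MulAction ↥(P : Subgroup A) {v : V // v ≠ 0} :=
      { smul := fun π v => ⟨ρ (π : A) v.1, fun e => v.2 (apply_injective ρ (π : A) (e.trans (map_zero _).symm))⟩
        one_smul := fun v => Subtype.ext (show ρ ((1 : ↥(P : Subgroup A)) : A) v.1 = v.1 by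
          rw [Subgroup.coe_one, map_one]; rfl)
        mul_smul := fun π π' v => Subtype.ext (apply_mul ρ (π : A) (π' : A) v.1) }
    have hfree : ∀ v : {v : V // v ≠ 0}, MulAction.stabilizer ↥(P : Subgroup A) v = ⊥ := fun v => by
      rw [eq_bot_iff]
      intro π hπ
      rw [Subgroup.mem_bot]
      by_contra hne
      exact v.2 (hsemi π π.2 (fun e => hne (Subtype.ext e)) v.1 (congrArg Subtype.val hπ))
    have h1 := Nat.card_congr (MulAction.selfEquivOrbitsQuotientProd hfree)
    rw [Nat.card_prod] at h1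
    have h2 : Nat.card {v : V // v ≠ 0} = q ^ n - 1 := by
      rw [Nat.card_eq_fintype_card, Fintype.card_subtype_compl, Fintype.card_subtype_eq,
        ← Nat.card_eq_fintype_card, hVc]
    exact ⟨_, h2 ▸ h1.trans (mul_comm _ _)⟩
  obtain ⟨i, hi⟩ := P.isPGroup'.exists_card_eq
  obtain ⟨rfl, hn4⟩ := eighty_one (j := i) hqodd hq3 hn3 (by rw [← hi]; exact hTdvd) (by rw [← hi]; exact hbig)
  -- the last case
  have hprimes : ∀ s : ℕ, s.Prime → s ∣ Nat.card A → s = 2 ∨ s = 13 := by
    intro s hs hsA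
    by_contra hcon
    push Not at hcon
    haveI := Fact.mk hs
    obtain ⟨b, hbo, hbP, w, hw, hbw⟩ := hfixed s hs hsA hcon.1
    have hs3 : s ≠ 3 := fun e => by
      subst e
      exact hs.ne_one (Nat.dvd_one.1 (hcop ▸ Nat.dvd_gcd hsA hqV))
    have hmod := fix_modEq ρ hbo
    have hfc : Nat.card (fix ρ {b}) = 3 ^ Module.finrank (ZMod 3) (E b) := by
      rw [← hcard]
      exact Nat.card_congr (Equiv.setCongr (Set.ext fun v =>
        (mem_fix_singleton (ρ := ρ)).trans (hE b v).symm))
    rw [hfc, hVc, hn4] at hmod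
    have h1 := hlow b (fun e => hbP (e ▸ one_mem _))
    have h2 : 1 ≤ Module.finrank (ZMod 3) (E b) := by
      by_contra h
      have h3 : E b = ⊥ := Submodule.finrank_eq_zero.1 (by omega)
      have h4 := (hE b w).2 hbw
      rw [h3, Submodule.mem_bot] at h4
      exact hw h4
    have hd := (Nat.modEq_iff_dvd' (Nat.pow_le_pow_right (by norm_num : 0 < 3) (by omega))).1 hmod.symm
    obtain ⟨hd1, hd2⟩ : 1 ≤ Module.finrank (ZMod 3) (E b) ∧ Module.finrank (ZMod 3) (E b) ≤ 2 := ⟨h2, by omega⟩
    have hcase : Module.finrank (ZMod 3) (E b) = 1 ∨ Module.finrank (ZMod 3) (E b) = 2 := by omega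
    rcases hcase with e | e <;> rw [e] at hd <;> norm_num at hd
    · rw [show 78 = 2 * (3 * 13) by norm_num] at hd
      rcases (Nat.Prime.dvd_mul hs).1 hd with h | h
      · exact hcon.1 ((Nat.prime_dvd_prime_iff_eq hs Nat.prime_two).1 h)
      rcases (Nat.Prime.dvd_mul hs).1 h with h | h
      · exact hs3 ((Nat.prime_dvd_prime_iff_eq hs (by norm_num)).1 h)
      · exact hcon.2 ((Nat.prime_dvd_prime_iff_eq hs (by norm_num)).1 h)
    · rw [show 72 = 2 ^ 3 * 3 ^ 2 by norm_num] at hd
      rcases (Nat.Prime.dvd_mul hs).1 hd with h | h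
      · exact hcon.1 ((Nat.prime_dvd_prime_iff_eq hs Nat.prime_two).1 (hs.dvd_of_dvd_pow h))
      · exact hs3 ((Nat.prime_dvd_prime_iff_eq hs (by norm_num)).1 (hs.dvd_of_dvd_pow h))
  have hfac : Nat.card A = 2 ^ (Nat.card A).factorization 2 * 13 ^ (Nat.card A).factorization 13 := by
    conv_lhs => rw [← Nat.prod_factorization_pow_eq_self (Nat.card_pos (α := A)).ne']
    rw [Finsupp.prod_of_support_subset _ (s := {2, 13}) ?_ _ (fun i _ => pow_zero i),
      Finset.prod_pair (by norm_num)]
    intro s hs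
    rw [Nat.support_factorization, Nat.mem_primeFactors] at hs
    simpa using hprimes s hs.1 hs.2.1
  haveI : Group.IsSolvable A := Cfsg.Agent.S0144.result 2 13 _ _ Nat.prime_two (by norm_num) hfac
  haveI : Nontrivial A := ⟨⟨z, 1, hz1⟩⟩
  exact (Group.IsSolvable.commutator_lt_top_of_nontrivial A).ne hperf


/-- A perfect coprime group with two-power orbits, faithful and irreducible, is trivial. -/
theorem subsingleton_of_perfect (ρ : A →* AddMonoid.End V) (hinj : Function.Injective ρ)
    (hcop : (Nat.card A).Coprime (Nat.card V)) (hperf : commutator A = ⊤) (hO : Orb ρ 2)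
    (hirr : ∀ W : AddSubgroup V, (∀ a, ∀ w ∈ W, ρ a w ∈ W) → W = ⊥ ∨ W = ⊤) : Subsingleton A := by
  classical
  haveI : Fact (Nat.Prime 2) := ⟨Nat.prime_two⟩
  obtain ⟨P⟩ : Nonempty (Sylow 2 A) := inferInstance
  have hPorb := fun a v => exists_mem_eq hO P a v
  have htriv : ∀ a : A, (∀ v, ρ a v = v) → a = 1 := fun a h =>
    hinj (DFunLike.ext _ _ fun v => (h v).trans (by rw [map_one]; rfl))
  by_cases hPbot : (P : Subgroup A) = ⊥
  · refine ⟨fun a b => ?_⟩
    have : ∀ c : A, c = 1 := fun c => htriv c fun v => by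
      obtain ⟨π, hπ, h⟩ := hPorb c v
      rw [hPbot, Subgroup.mem_bot] at hπ
      rw [h, hπ, map_one]; rfl
    rw [this a, this b]
  exfalso
  have h2A : 2 ∣ Nat.card A := by
    haveI : Nontrivial ↥(P : Subgroup A) := (Subgroup.nontrivial_iff_ne_bot _).2 hPbot
    obtain ⟨n, hn⟩ := P.isPGroup'.exists_card_eq
    have h1 : 1 < Nat.card ↥(P : Subgroup A) := Finite.one_lt_card
    rcases n with _ | n
    · rw [hn, pow_zero] at h1; omega
    · exact (Dvd.intro_left (2 ^ n) (by rw [hn, pow_succ])).trans (Subgroup.card_subgroup_dvd_card _)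
  have hdbl : ∀ x : V, x + x = 0 → x = 0 := by
    intro x hx
    have h2 : 2 • x = 0 := by rw [two_nsmul, hx]
    have h3 := Nat.dvd_gcd ((addOrderOf_dvd_of_nsmul_eq_zero h2).trans h2A) (addOrderOf_dvd_natCard x)
    rwa [hcop, Nat.dvd_one, AddMonoid.addOrderOf_eq_one_iff] at h3
  -- an involution centralized by `P` is minus one
  have hneg : ∀ t ∈ (P : Subgroup A), t * t = 1 → t ≠ 1 → (∀ π ∈ (P : Subgroup A), π * t = t * π) →
      ∀ v, ρ t v = -v := by
    intro t _ ht2 ht1 hcomm
    have hinv : ∀ a, ∀ w ∈ fix ρ {t}, ρ a w ∈ fix ρ {t} := by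
      intro a w hw
      obtain ⟨π, hπ, h⟩ := hPorb a w
      rw [h, mem_fix_singleton, ← apply_mul, ← hcomm π hπ, apply_mul, mem_fix_singleton.1 hw]
    rcases hirr _ hinv with h | h
    · intro v
      have h1 : v + ρ t v ∈ fix ρ {t} := mem_fix_singleton.2 (by
        rw [map_add, ← apply_mul, ht2, map_one, add_comm]; rfl)
      rw [h, AddSubgroup.mem_bot] at h1
      exact eq_neg_of_add_eq_zero_right h1
    · exact absurd (htriv t fun v => mem_fix_singleton.1 (h ▸ AddSubgroup.mem_top v)) ht1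
  haveI : Nontrivial ↥(P : Subgroup A) := (Subgroup.nontrivial_iff_ne_bot _).2 hPbot
  obtain ⟨⟨z, hzP⟩, -, hz2, hzc⟩ := CfsgLib.TwoGroups.Classify.exists_central_involution P.isPGroup'
    (⊤ : Subgroup ↥(P : Subgroup A)) (by exact top_ne_bot)
  have hzo : orderOf z = 2 := by rw [← hz2, Subgroup.orderOf_mk]
  have hzz : z * z = 1 := by rw [← pow_two, ← hzo, pow_orderOf_eq_one]
  have hz1 : z ≠ 1 := fun e => by rw [e, orderOf_one] at hzo; omega
  have hzπ : ∀ π ∈ (P : Subgroup A), π * z = z * π := fun π hπ =>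
    congrArg Subtype.val (Subgroup.mem_center_iff.1 hzc ⟨π, hπ⟩)
  have hz := hneg z hzP hzz hz1 hzπ
  have hzA : ∀ a : A, a * z = z * a := fun a => hinj (DFunLike.ext _ _ fun v => by
    rw [apply_mul, apply_mul, hz, hz, map_neg])
  have huniqz : ∀ t ∈ (P : Subgroup A), t * t = 1 → t ≠ 1 → (∀ π ∈ (P : Subgroup A), π * t = t * π) → t = z :=
    fun t h1 h2 h3 h4 => hinj (DFunLike.ext _ _ fun v => (hneg t h1 h2 h3 h4 v).trans (hz v).symm)
  -- no normal four-group
  have hno : ¬ ∃ U : Subgroup ↥(P : Subgroup A), U.Normal ∧ Nat.card U = 4 ∧ ∀ x ∈ U, x * x = 1 := by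
    rintro ⟨U, hUn, hUc, hU2⟩
    haveI := hUn
    obtain ⟨⟨w, hwP⟩, hwU, hw2, hwc⟩ := CfsgLib.TwoGroups.Classify.exists_central_involution P.isPGroup' U
      (fun e => by rw [e, Subgroup.card_bot] at hUc; omega)
    have hwo : orderOf w = 2 := by rw [← hw2, Subgroup.orderOf_mk]
    obtain rfl : w = z := huniqz w hwP (by rw [← pow_two, ← hwo, pow_orderOf_eq_one])
      (fun e => by rw [e, orderOf_one] at hwo; omega)
      (fun π hπ => congrArg Subtype.val (Subgroup.mem_center_iff.1 hwc ⟨π, hπ⟩))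
    set z' : U := ⟨⟨w, hwP⟩, hwU⟩ with hz'
    obtain ⟨e, he1, hez⟩ : ∃ e : U, e ≠ 1 ∧ e ≠ z' := by
      by_contra hcon
      push Not at hcon
      have hle : Nat.card U ≤ ({1, z'} : Set U).ncard := by
        rw [← Set.ncard_univ]
        refine Set.ncard_le_ncard (fun x _ => ?_) (Set.toFinite _)
        by_cases hx : x = 1
        · exact Or.inl hx
        · exact Or.inr (hcon x hx)
      have h2 := (Set.ncard_insert_le (1 : U) {z'}).trans (le_of_eq (by rw [Set.ncard_singleton]))
      omega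
    set f : A := ((e : ↥(P : Subgroup A)) : A) with hf
    have hfP : f ∈ (P : Subgroup A) := (e : ↥(P : Subgroup A)).2
    have hf2 : f * f = 1 := congrArg Subtype.val (hU2 _ e.2)
    have hfz : f ≠ w := fun h => hez (Subtype.ext (Subtype.ext h))
    have hf1 : f ≠ 1 := fun h => he1 (Subtype.ext (Subtype.ext h))
    -- the four elements
    have hfour : ∀ x : U, x = 1 ∨ x = z' ∨ x = e ∨ x = e * z' := by
      have hz'2 : z' * z' = 1 := Subtype.ext (hU2 _ z'.2)
      have hz'1 : z' ≠ 1 := fun h => hz1 (congrArg (fun x : U => ((x : ↥(P : Subgroup A)) : A)) h)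
      have h1 : e * z' ≠ 1 := fun h => hez (by rw [eq_inv_of_mul_eq_one_left h, inv_eq_of_mul_eq_one_right hz'2])
      have h2 : e * z' ≠ z' := fun h => he1 (mul_eq_right.1 h)
      have h3 : e * z' ≠ e := fun h => hz'1 (mul_eq_left.1 h)
      have hset : ({1, z', e, e * z'} : Set U) = Set.univ := by
        refine Set.eq_of_subset_of_ncard_le (Set.subset_univ _) ?_
        rw [Set.ncard_univ, hUc, Set.ncard_insert_of_notMem (by simp [Ne.symm hz'1, Ne.symm he1, Ne.symm h1]),
          Set.ncard_insert_of_notMem (by simp [Ne.symm hez, Ne.symm h2]), Set.ncard_pair h3.symm]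
      intro x
      have := hset ▸ Set.mem_univ x
      simpa using this
    set M1 := fix ρ {f} with hM1
    set M2 := fix ρ {f * w} with hM2
    have hM : ∀ v, v ∈ M2 ↔ ρ f v = -v := fun v => by
      rw [hM2, mem_fix_singleton, apply_mul, hz, map_neg, neg_eq_iff_eq_neg]
    have hdis : ∀ v, v ∈ M1 → v ∈ M2 → v = 0 := fun v h1 h2 => hdbl v (by
      have := (hM v).1 h2
      rw [mem_fix_singleton.1 h1] at this
      nth_rewrite 1 [this]; exact neg_add_cancel v)
    have hunion : ∀ a v, v ∈ M1 ∨ v ∈ M2 → ρ a v ∈ M1 ∨ ρ a v ∈ M2 := by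
      intro a v hv
      obtain ⟨π, hπ, h⟩ := hPorb a v
      rw [h]
      -- `π⁻¹ f π` is `f` or `f z`
      set c : U := ⟨(⟨π, hπ⟩ : ↥(P : Subgroup A))⁻¹ * e * ⟨π, hπ⟩, by
        have := hUn.conj_mem _ e.2 (⟨π, hπ⟩ : ↥(P : Subgroup A))⁻¹
        rwa [inv_inv] at this⟩ with hc
      have hcA : ((c : ↥(P : Subgroup A)) : A) = π⁻¹ * f * π := rfl
      have hfc : f * π = π * ((c : ↥(P : Subgroup A)) : A) := by rw [hcA]; group
      rcases hfour c with h1 | h1 | h1 | h1
      · exfalso
        rw [h1] at hfc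
        exact hf1 (mul_eq_right.1 (hfc.trans (mul_one π)))
      · exfalso
        rw [h1] at hfc
        exact hfz (mul_right_cancel (hfc.trans (hzA π)))
      · rw [h1, ← hf] at hfc
        rcases hv with hv | hv
        · exact Or.inl (mem_fix_singleton.2 (by rw [← apply_mul, hfc, apply_mul, mem_fix_singleton.1 hv]))
        · exact Or.inr ((hM _).2 (by rw [← apply_mul, hfc, apply_mul, (hM v).1 hv, map_neg]))
      · rw [h1] at hfc
        have hfc' : f * π = π * (f * w) := hfc
        rcases hv with hv | hv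
        · refine Or.inr ((hM _).2 ?_)
          rw [← apply_mul, hfc', apply_mul, apply_mul, hz, map_neg, mem_fix_singleton.1 hv, map_neg]
        · exact Or.inl (mem_fix_singleton.2 (by rw [← apply_mul, hfc', apply_mul, mem_fix_singleton.1 hv]))
    have himg : ∀ a (M : AddSubgroup V), (∀ v ∈ M, v ∈ M1 ∨ v ∈ M2) →
        (∀ v ∈ M, ρ a v ∈ M1) ∨ (∀ v ∈ M, ρ a v ∈ M2) := by
      intro a M hM'
      by_contra hcon
      push Not at hcon
      obtain ⟨⟨x, hx, hx1⟩, y, hy, hy2⟩ := hcon
      have hx2 := (hunion a x (hM' x hx)).resolve_left hx1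
      have hy1 := (hunion a y (hM' y hy)).resolve_right hy2
      rcases hunion a (x + y) (hM' _ (M.add_mem hx hy)) with h | h
      · rw [map_add] at h
        exact hx1 (by have := M1.sub_mem h hy1; rwa [add_sub_cancel_right] at this)
      · rw [map_add] at h
        exact hy2 (by have := M2.sub_mem h hx2; rwa [add_sub_cancel_left] at this)
    let S : Subgroup A :=
      { carrier := {a | ∀ v ∈ M1, ρ a v ∈ M1}
        one_mem' := fun v hv => by rw [map_one]; exact hv
        mul_mem' := fun {a b} ha hb v hv => by rw [apply_mul]; exact ha _ (hb v hv)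
        inv_mem' := fun {a} ha v hv => by
          have hbij : Function.Bijective fun x : M1 => (⟨ρ a x, ha x x.2⟩ : M1) :=
            Finite.injective_iff_bijective.1 fun x y h =>
              Subtype.ext (apply_injective ρ a (congrArg Subtype.val h))
          obtain ⟨x, hx⟩ := hbij.2 ⟨v, hv⟩
          rw [← show ρ a x = v from congrArg Subtype.val hx, apply_inv_apply]
          exact x.2 }
    have hout : ∀ a, a ∉ S → (∀ v ∈ M1, ρ a v ∈ M2) ∧ ∀ v ∈ M2, ρ a v ∈ M1 := by
      intro a ha
      have h1 := (himg a M1 fun v hv => Or.inl hv).resolve_left ha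
      refine ⟨h1, (himg a M2 fun v hv => Or.inr hv).resolve_right fun h2 => ha fun v hv => ?_⟩
      have hbij : Function.Bijective fun x : M2 => (⟨ρ a x, h2 x x.2⟩ : M2) :=
        Finite.injective_iff_bijective.1 fun x y h =>
          Subtype.ext (apply_injective ρ a (congrArg Subtype.val h))
      obtain ⟨x, hx⟩ := hbij.2 ⟨ρ a v, h1 v hv⟩
      have hxv : (x : V) = v := apply_injective ρ a (congrArg Subtype.val hx)
      rw [hdis v hv (hxv ▸ x.2), map_zero]
      exact M1.zero_mem
    have hS : ∀ a, a ∈ S := by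
      by_contra hcon
      push Not at hcon
      obtain ⟨a, ha⟩ := hcon
      refine index_two_false hperf S (Subgroup.index_eq_two_iff.2 ⟨a, fun b => ?_⟩)
      by_cases hb : b ∈ S
      · exact Or.inr ⟨hb, fun hba => ha (by
          have := S.mul_mem (S.inv_mem hb) hba
          rwa [inv_mul_cancel_left] at this)⟩
      · refine Or.inl ⟨fun v hv => ?_, hb⟩
        rw [apply_mul]
        exact (hout b hb).2 _ ((hout a ha).1 v hv)
    rcases hirr M1 (fun a w hw => hS a w hw) with h | h
    · have : ∀ v, ρ f v = -v := fun v => by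
        have h1 : v + ρ f v ∈ M1 := mem_fix_singleton.2 (by
          rw [map_add, ← apply_mul, hf2, map_one, add_comm]; rfl)
        rw [h, AddSubgroup.mem_bot] at h1
        exact eq_neg_of_add_eq_zero_right h1
      exact hfz (hinj (DFunLike.ext _ _ fun v => (this v).trans (hz v).symm))
    · exact hf1 (htriv f fun v => mem_fix_singleton.1 (show v ∈ M1 by rw [h]; exact AddSubgroup.mem_top v))
  -- `P` is not cyclic
  by_cases hcyc : IsCyclic ↥(P : Subgroup A)
  · have hmin : (Nat.card A).minFac = 2 := (Nat.minFac_eq_two_iff _).2 h2A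
    have hK := IsCyclic.isComplement' hmin hcyc
    refine hPbot ?_
    have htop : (MonoidHom.transferSylow P (hcyc.normalizer_le_centralizer hmin)).ker = ⊤ := by
      rw [eq_top_iff, ← hperf, commutator_def, Subgroup.commutator_le]
      intro x _ y _
      rw [MonoidHom.mem_ker, map_commutatorElement]
      exact commutatorElement_eq_one_iff_commute.2 (IsCyclic.isMulCommutative.is_comm.comm _ _)
    rw [htop] at hK
    exact Subgroup.isComplement'_top_left.1 hK
  have hna : ∃ x y : ↥(P : Subgroup A), x * y ≠ y * x := by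
    by_contra hcon
    push Not at hcon
    haveI hcomm : IsMulCommutative (⊤ : Subgroup ↥(P : Subgroup A)) := ⟨⟨fun x y => Subtype.ext (hcon x y)⟩⟩
    obtain ⟨E, -, hEn, hE, hEc⟩ := CfsgLib.Fusion.NormalRankTwo.exists_of_abelian P.isPGroup'
      (A := (⊤ : Subgroup ↥(P : Subgroup A))) hcomm (fun h => hcyc (Subgroup.topEquiv.isCyclic.1 h))
    exact hno ⟨E, hEn, by simpa using hEc, fun x hx => by rw [← pow_two]; exact hE.2 x hx⟩
  obtain ⟨a, k, hk, hak, hPc⟩ := CfsgLib.LocalEven.HalfTransitive.cyclic_index_two P.isPGroup' hno hna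
  set C := Subgroup.zpowers a with hC
  have hCi : C.index = 2 := by
    have h1 := C.card_mul_index
    rw [Nat.card_zpowers, hak, hPc, pow_succ] at h1
    exact Nat.eq_of_mul_eq_mul_left (Nat.two_pow_pos k) h1
  haveI := Subgroup.normal_of_index_eq_two hCi
  have hCuniq : ∀ x ∈ C, ∀ y ∈ C, orderOf x = 2 → orderOf y = 2 → x = y := by
    intro x hx y hy hx2 hy2
    haveI := Fintype.ofFinite C
    have h1 := IsCyclic.card_pow_eq_one_le (α := C) (n := 2) two_pos
    by_contra hxy
    have hsub : ({1, ⟨x, hx⟩, ⟨y, hy⟩} : Finset C) ⊆ Finset.univ.filter fun c : C => c ^ 2 = 1 := by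
      intro c hc
      simp only [Finset.mem_insert, Finset.mem_singleton] at hc
      refine Finset.mem_filter.2 ⟨Finset.mem_univ _, ?_⟩
      rcases hc with rfl | rfl | rfl
      · exact one_pow 2
      · exact Subtype.ext (show x ^ 2 = 1 from orderOf_dvd_iff_pow_eq_one.1 (dvd_of_eq hx2))
      · exact Subtype.ext (show y ^ 2 = 1 from orderOf_dvd_iff_pow_eq_one.1 (dvd_of_eq hy2))
    have h3 := (Finset.card_le_card hsub).trans (h1)
    rw [Finset.card_insert_of_notMem, Finset.card_pair (fun e => hxy (congrArg Subtype.val e))] at h3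
    · omega
    · simp only [Finset.mem_insert, Finset.mem_singleton]
      rintro (e | e)
      · rw [orderOf_eq_one_iff.2 (show x = 1 from (congrArg Subtype.val e).symm)] at hx2
        omega
      · rw [orderOf_eq_one_iff.2 (show y = 1 from (congrArg Subtype.val e).symm)] at hy2
        omega
  have hinC : ∀ x ∈ C, orderOf x = 2 → x = ⟨z, hzP⟩ := by
    intro x hx hx2
    refine Subtype.ext (huniqz _ x.2 ?_ ?_ fun π hπ => ?_)
    · exact congrArg Subtype.val (show x * x = 1 by rw [← pow_two]; exact orderOf_dvd_iff_pow_eq_one.1 (dvd_of_eq hx2))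
    · intro e; rw [show x = 1 from Subtype.ext e, orderOf_one] at hx2; omega
    · have h1 := hCuniq _ (‹C.Normal›.conj_mem x hx ⟨π, hπ⟩) x hx
        (by rw [← MulAut.conj_apply, MulEquiv.orderOf_eq]; exact hx2) hx2
      exact congrArg Subtype.val (mul_inv_eq_iff_eq_mul.1 h1)
  have honly : ∀ t : ↥(P : Subgroup A), orderOf t = 2 → t = ⟨z, hzP⟩ := by
    intro t ht
    by_cases htC : t ∈ C
    · exact hinC t htC ht
    exfalso
    have ht2 : (t : A) ^ 2 = 1 := orderOf_dvd_iff_pow_eq_one.1 (dvd_of_eq (by rw [Subgroup.orderOf_coe, ht]))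
    have hQi : (C.map (P : Subgroup A).subtype).relIndex (P : Subgroup A) = 2 := by
      rw [Subgroup.relIndex, Subgroup.subgroupOf,
        Subgroup.comap_map_eq_self_of_injective (Subgroup.subtype_injective _)]
      exact hCi
    rcases CfsgLib.Fusion.ThompsonTransfer.thompson_transfer P (C.map (P : Subgroup A).subtype)
      (Subgroup.map_subtype_le _) hQi (t : A) ht2 t.2
      (by rw [Subgroup.mem_map]; rintro ⟨x, hx, e⟩; exact htC (Subtype.ext e ▸ hx)) with ⟨M, -, hM, -⟩ | ⟨g, hg⟩
    · exact index_two_false hperf M hM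
    · obtain ⟨x, hx, hxe⟩ := Subgroup.mem_map.1 hg
      have hx2 : orderOf x = 2 := by
        rw [← Subgroup.orderOf_coe, show (x : A) = g * (t : A) * g⁻¹ from hxe, ← MulAut.conj_apply,
          MulEquiv.orderOf_eq, Subgroup.orderOf_coe, ht]
      have h1 : g * (t : A) * g⁻¹ = z := hxe.symm.trans (congrArg Subtype.val (hinC x hx hx2))
      have h2 : (t : A) = z := by
        rw [show (t : A) = g⁻¹ * (g * (t : A) * g⁻¹) * g by group, h1, mul_assoc, ← hzA g, inv_mul_cancel_left]
      have hzC : (⟨z, hzP⟩ : ↥(P : Subgroup A)) ∈ C := hinC x hx hx2 ▸ hx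
      exact htC ((show t = ⟨z, hzP⟩ from Subtype.ext h2) ▸ hzC)
  -- `P` is semiregular
  have hsemi : ∀ π ∈ (P : Subgroup A), π ≠ 1 → ∀ v, ρ π v = v → v = 0 := by
    intro π hπ hπ1 v hv
    obtain ⟨j, hj⟩ := IsPGroup.iff_orderOf.1 P.isPGroup' ⟨π, hπ⟩
    rcases j with _ | j
    · exact absurd (congrArg Subtype.val (orderOf_eq_one_iff.1 hj)) hπ1
    have ho : orderOf ((⟨π, hπ⟩ : ↥(P : Subgroup A)) ^ 2 ^ j) = 2 := by
      rw [orderOf_pow_of_dvd (by positivity) (hj ▸ pow_dvd_pow 2 (Nat.le_succ j)), hj, pow_succ',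
        Nat.mul_div_cancel _ (Nat.two_pow_pos j)]
    have h1 : π ^ 2 ^ j = z := congrArg Subtype.val (honly _ ho)
    have h2 : π ^ 2 ^ j ∈ st ρ v := Subgroup.pow_mem _ (mem_st.2 hv) _
    rw [h1, mem_st, hz] at h2
    exact hdbl v (by nth_rewrite 1 [← h2]; exact neg_add_cancel v)
  -- elementary abelian
  have hVnt : Nontrivial V := by
    by_contra hs
    rw [not_nontrivial_iff_subsingleton] at hs
    exact hz1 (htriv z fun v => Subsingleton.elim _ _)
  obtain ⟨q, hq, hqV⟩ := Nat.exists_prime_and_dvd (Finite.one_lt_card (α := V)).ne'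
  haveI := Fact.mk hq
  have hexp : ∀ v : V, q • v = 0 := by
    let W : AddSubgroup V := (nsmulAddMonoidHom q).ker
    rcases hirr W (fun a w hw => by
      show q • ρ a w = 0
      rw [← map_nsmul, show q • w = 0 from hw, map_zero]) with h | h
    · obtain ⟨x, hx⟩ := exists_prime_addOrderOf_dvd_card' (G := V) q hqV
      have h1 : x ∈ W := show q • x = 0 by rw [← hx, addOrderOf_nsmul_eq_zero]
      rw [h, AddSubgroup.mem_bot] at h1
      rw [h1, addOrderOf_zero] at hx
      exact absurd hx.symm hq.ne_one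
    · exact fun v => show v ∈ W from h ▸ AddSubgroup.mem_top v
  exact final ρ hinj hcop hperf hO (q := q) hqV P h2A hdbl hPorb hsemi z hzP hz1 (AddCommGroup.zmodModule hexp)

end CfsgLib.Coprime.PrimePowerOrbits
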